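import Cfsg.Agent.Lib.CycAb.Base
import Cfsg.Agent.Lib.PCount.Basic

/-!
# No simple group has cyclic Sylow `p`-subgroups and abelian `p'`-subgroups
-/

set_option autoImplicit false

namespace CfsgLib.CycAb

open Subgroup
open scoped commutatorElement Pointwise

variable {G : Type*} [Group G]

theorem mem_smul {p : ℕ} {P : Sylow p G} {g u : G} : u ∈ g • P ↔ g⁻¹ * u * g ∈ P := by
  show u ∈ ((g • P : Sylow p G) : Subgroup G) ↔ _ ∈ (P : Subgroup G)
  rw [Sylow.coe_subgroup_smul, mem_pointwise_smul_iff_inv_smul_mem]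
  simp

/-- An involution. -/
def IsInv (t : G) : Prop := t * t = 1 ∧ t ≠ 1

/-- The involutions. -/
def Invs (G : Type*) [Group G] : Set G := {t | IsInv t}

theorem IsInv.conj {t : G} (ht : IsInv t) (g : G) : g * t * g⁻¹ ∈ Invs G := by
  refine ⟨?_, by simpa using ht.2⟩
  calc _ = g * (t * t) * g⁻¹ := by group
    _ = 1 := by rw [ht.1]; group

theorem IsInv.inv {t : G} (ht : IsInv t) : t⁻¹ = t := inv_eq_of_mul_eq_one_right ht.1

theorem IsInv.sylow {t : G} (ht : IsInv t) : ∃ T : Sylow 2 G, t ∈ T :=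
  exists_sylow (k := 1) (by rw [pow_one, pow_two, ht.1])

theorem inverts {t s : G} (ht : t ∈ Invs G) (hs : s ∈ Invs G) : t * (t * s) * t⁻¹ = (t * s)⁻¹ := by
  rw [mul_inv_rev, ht.inv, hs.inv, ← mul_assoc, ht.1, one_mul]

theorem inverts' {t s : G} (ht : t ∈ Invs G) (hs : s ∈ Invs G) : s * (t * s) * s⁻¹ = (t * s)⁻¹ := by
  rw [mul_inv_rev, ht.inv, hs.inv, mul_assoc, mul_assoc, hs.1, mul_one]

theorem comm_pow {t w : G} {n : ℕ} (h1 : t * w * t⁻¹ = w⁻¹) (h2 : w ^ n * w ^ n = 1) :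
    t * w ^ n = w ^ n * t := by
  have : t * w ^ n * t⁻¹ = w ^ n := by
    rw [← conj_pow, h1, inv_pow]
    exact inv_eq_of_mul_eq_one_right h2
  rw [← this, inv_mul_cancel_right, this]

theorem cent_mul {p : ℕ} {P : Sylow p G} {a b : G} (ha : ∀ u ∈ P, a * u * a⁻¹ = u⁻¹)
    (hb : ∀ u ∈ P, b * u * b⁻¹ = u⁻¹) : ∀ u ∈ P, a * b * u * (a * b)⁻¹ = u := fun u hu => by
  calc a * b * u * (a * b)⁻¹ = a * (b * u * b⁻¹) * a⁻¹ := by group
    _ = (a * u * a⁻¹)⁻¹ := by rw [hb u hu]; group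
    _ = u := by rw [ha u hu, inv_inv]

theorem cz_smul {p : ℕ} {P : Sylow p G} {v : G} (hv : ∀ u ∈ P, v * u * v⁻¹ = u) (g : G) :
    ∀ u ∈ g • P, g * v * g⁻¹ * u * (g * v * g⁻¹)⁻¹ = u := fun u hu => by
  calc _ = g * (v * (g⁻¹ * u * g) * v⁻¹) * g⁻¹ := by group
    _ = u := by rw [hv _ (mem_smul.1 hu)]; group

variable [Finite G] {p : ℕ} [hp : Fact p.Prime]

theorem mem_two {T : Sylow 2 G} {s : G} (hs : s * s = 1) (hc : ∀ a ∈ T, s * a = a * s) : s ∈ T :=
  mem_of_norm (k := 1) (by rw [pow_one, pow_two, hs]) (mem_normalizer_fintype fun a ha => by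
    rw [hc a ha, mul_inv_cancel_right]; exact ha)

namespace Ctx

variable (h : Ctx p G)
include h

theorem dvd_qq : p ∣ qq p G :=
  dvd_pow_self p (hp.out.factorization_pos_of_dvd Nat.card_pos.ne' h.dvd).ne'

theorem pow_qq_of {x : G} (hx : x ^ p = 1) : x ^ qq p G = 1 := by
  obtain ⟨k, hk⟩ := h.dvd_qq
  rw [hk, pow_mul, hx, one_pow]

omit hp [Finite G] in
theorem p_comm {P : Sylow p G} {a b : G} (ha : a ∈ P) (hb : b ∈ P) : a * b = b * a :=
  comm_of (H := P) (have := h.cyc P; inferInstance) ha hb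

omit hp in
theorem exists_noncomm : ∃ t ∈ Invs G, ∃ s ∈ Invs G, t * s ≠ s * t := by
  haveI := h.simple
  by_contra hn
  push Not at hn
  obtain ⟨t, -, ht⟩ := h.exists_inv default
  have : (centralizer (Invs G)).Normal := ⟨fun a ha g => mem_centralizer_iff.2 fun s hs => by
    have := mem_centralizer_iff.1 ha _ (IsInv.conj hs g⁻¹)
    calc s * (g * a * g⁻¹) = g * (g⁻¹ * s * g⁻¹⁻¹ * a) * g⁻¹ := by group
      _ = _ := by rw [this]; group⟩
  rcases this.eq_bot_or_eq_top with e | e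
  · exact ht.2 (mem_bot.1 (e ▸ mem_centralizer_iff.2 fun s hs => hn s hs t ht))
  · exact ht.2 (h.eq_one_of_central fun a => (mem_centralizer_iff.1 (e ▸ mem_top a) t ht).symm)

theorem caseA (hA : ∀ t ∈ Invs G, ∀ x, x ^ qq p G = 1 → t * x = x * t → x = 1) : False := by
  have cab : ∀ t ∈ Invs G, IsMulCommutative (centralizer ({t} : Set G)) := fun t ht =>
    h.ab _ fun hd => by
      obtain ⟨x, hx⟩ := exists_prime_orderOf_dvd_card' p hd
      rw [← orderOf_coe] at hx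
      have := hA t ht x (h.pow_qq_of (hx ▸ pow_orderOf_eq_one _))
        (mem_centralizer_singleton_iff.1 x.2).symm
      rw [this, orderOf_one] at hx
      exact hp.out.one_lt.ne hx
  have free : ∀ A ⊆ Invs G, (∀ g, ∀ a ∈ A, g * a * g⁻¹ ∈ A) → qq p G ∣ A.ncard := fun A h1 h2 => by
    rw [← card_qq (default : Sylow p G)]
    exact card_dvd_ncard_of_free _ A (fun g _ => h2 g) fun g hg a ha e =>
      hA a (h1 ha) g (pow_qq hg) e.symm
  set T₀ : Sylow 2 G := default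
  have hm : p ∣ (Invs G ∩ T₀).ncard := by
    obtain ⟨y, hy, hyp⟩ := h.exists_y T₀
    rw [← hyp, ← Nat.card_zpowers]
    refine card_dvd_ncard_of_free _ _ (fun g hg a ha => ⟨ha.1.conj g, ?_⟩) fun g hg a ha e => ?_
    · exact (mem_normalizer_iff.1 (zpowers_le.2 hy hg) a).1 ha.2
    · refine hA a ha.1 g (h.pow_qq_of ?_) e.symm
      obtain ⟨k, rfl⟩ := hg
      rw [← hyp, ← zpow_natCast, ← zpow_mul, mul_comm, zpow_mul, zpow_natCast, pow_orderOf_eq_one,
        one_zpow]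
  have hc : ∀ t ∈ Invs G, {s | s ∈ Invs G ∧ t * s ≠ s * t}.ncard =
      (Invs G).ncard - (Invs G ∩ T₀).ncard := fun t ht => by
    obtain ⟨T, hT⟩ := ht.sylow
    obtain ⟨g, rfl⟩ := MulAction.exists_smul_eq G T₀ T
    have e1 : Invs G ∩ (g • T₀ : Sylow 2 G) = (fun a => g * a * g⁻¹) '' (Invs G ∩ T₀) := by
      ext a
      constructor
      · rintro ⟨h1, h2⟩
        exact ⟨g⁻¹ * a * g⁻¹⁻¹, ⟨h1.conj _, by rw [inv_inv]; exact mem_smul.1 h2⟩, by group⟩
      · rintro ⟨b, ⟨h1, h2⟩, rfl⟩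
        refine ⟨h1.conj g, mem_smul.2 ?_⟩
        have : g⁻¹ * (g * b * g⁻¹) * g = b := by group
        rw [this]
        exact h2
    have e2 : {s | s ∈ Invs G ∧ t * s ≠ s * t} = Invs G \ (Invs G ∩ (g • T₀ : Sylow 2 G)) := by
      ext s
      constructor
      · rintro ⟨h1, h2⟩
        exact ⟨h1, fun h3 => h2 (h.two_comm _ hT h3.2)⟩
      · rintro ⟨h1, h2⟩
        refine ⟨h1, fun e => h2 ⟨h1, mem_two h1.1 fun a ha => comm_of (cab t ht) ?_ ?_⟩⟩
        · exact mem_centralizer_singleton_iff.2 e.symm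
        · exact mem_centralizer_singleton_iff.2 (h.two_comm _ ha hT)
    rw [e2, Set.ncard_diff Set.inter_subset_left, e1, Set.ncard_image_of_injective]
    intro a b e
    simpa using e
  let X : Set (G × G) := {z | z.1 ∈ Invs G ∧ z.2 ∈ Invs G ∧ z.1 * z.2 ≠ z.2 * z.1}
  have h1 : qq p G * p ∣ X.ncard := by
    rw [CfsgLib.PCount.ncard_eq_mul_of_fibers X Prod.fst ((Invs G).ncard - (Invs G ∩ T₀).ncard)]
    · refine mul_dvd_mul (free _ ?_ ?_)
        (Nat.dvd_sub (h.dvd_qq.trans (free _ subset_rfl fun g a ha => ha.conj g)) hm)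
      · rintro _ ⟨z, hz, rfl⟩
        exact hz.1
      · rintro g _ ⟨z, hz, rfl⟩
        refine ⟨(g * z.1 * g⁻¹, g * z.2 * g⁻¹), ⟨hz.1.conj g, hz.2.1.conj g, fun e => hz.2.2 ?_⟩, rfl⟩
        simpa using e
    · intro z hz
      rw [← hc z.1 hz.1, ← Set.ncard_image_of_injective {s | s ∈ Invs G ∧ z.1 * s ≠ s * z.1}
        (Prod.mk_right_injective z.1)]
      congr 1
      ext w
      constructor
      · rintro ⟨⟨-, h2, h3⟩, e⟩
        exact ⟨w.2, ⟨h2, e ▸ h3⟩, Prod.ext e.symm rfl⟩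
      · rintro ⟨s, ⟨h2, h3⟩, rfl⟩
        exact ⟨⟨hz.1, h2, h3⟩, rfl⟩
  have hpel : ∀ z ∈ X, (z.1 * z.2) ^ qq p G = 1 ∧ z.1 * z.2 ≠ 1 := fun z hz => by
    constructor
    · by_contra hne
      have h2 := h.prod_sq hz.1.1 hz.2.1.1
      exact hz.2.2 (comm_of (cab _ ⟨h2, hne⟩)
        (mem_centralizer_singleton_iff.2 (comm_pow (inverts hz.1 hz.2.1) h2))
        (mem_centralizer_singleton_iff.2 (comm_pow (inverts' hz.1 hz.2.1) h2)))
    · intro e
      apply hz.2.2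
      rw [e, eq_inv_of_mul_eq_one_right e, inv_mul_cancel]
  have hinv : ∀ (P : Sylow p G) t, t ∈ Invs G → ∀ x ∈ P, x ≠ 1 → t * x * t⁻¹ = x⁻¹ →
      ∀ u ∈ P, t * u * t⁻¹ = u⁻¹ := fun P t ht x hx h1 e =>
    (h.dich P ht.1 (h.mem_norm hx h1 (Or.inr e))).resolve_left fun h2 =>
      h1 (hA t ht x (pow_qq hx) (by rw [← h2 x hx, inv_mul_cancel_right, h2 x hx]))
  have invP : ∀ P : Sylow p G, ∃ t ∈ Invs G, ∀ u ∈ P, t * u * t⁻¹ = u⁻¹ := fun P => by
    obtain ⟨t, ht, s, hs, hts⟩ := h.exists_noncomm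
    obtain ⟨h2, h3⟩ := hpel (t, s) ⟨ht, hs, hts⟩
    obtain ⟨P₀, hP₀⟩ := exists_sylow h2
    obtain ⟨g, rfl⟩ := MulAction.exists_smul_eq G P₀ P
    refine ⟨_, ht.conj g, fun u hu => ?_⟩
    calc _ = g * (t * (g⁻¹ * u * g) * t⁻¹) * g⁻¹ := by group
      _ = u⁻¹ := by rw [hinv P₀ t ht _ hP₀ h3 (inverts ht hs) _ (mem_smul.1 hu)]; group
  have mk : ∀ t ∈ Invs G, ∀ u, u ^ qq p G = 1 → u ≠ 1 → t * u * t⁻¹ = u⁻¹ → (t, t * u) ∈ X :=
    fun t ht u hu h1 e => by
      have e1 : t * u * t = u⁻¹ := by rw [← e, ht.inv]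
      refine ⟨ht, ⟨?_, fun e2 => h1 (h.sq_eq_one hu ?_)⟩, fun e2 => h1 (h.sq_eq_one hu ?_)⟩
      · show t * u * (t * u) = 1
        rw [← mul_assoc, e1, inv_mul_cancel]
      · rw [eq_inv_of_mul_eq_one_right e2, ht.inv, ht.1]
      · have e3 : t * (t * u) = t * u * t := e2
        rw [← mul_assoc, ht.1, one_mul, e1] at e3
        nth_rw 1 [e3]
        exact inv_mul_cancel u
  have h2 : X.ncard = {u : G | u ^ qq p G = 1 ∧ u ≠ 1}.ncard * qq p G := by
    rw [CfsgLib.PCount.ncard_eq_mul_of_fibers X (fun z => z.1 * z.2) (qq p G)]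
    · congr 2
      ext u
      constructor
      · rintro ⟨z, hz, rfl⟩
        exact hpel z hz
      · rintro ⟨hu, h1⟩
        obtain ⟨P, hP⟩ := exists_sylow hu
        obtain ⟨t, ht, e⟩ := invP P
        exact ⟨_, mk t ht u hu h1 (e u hP), by simp [← mul_assoc, ht.1]⟩
    · intro z hz
      obtain ⟨hu, h1⟩ := hpel z hz
      obtain ⟨P, hP⟩ := exists_sylow hu
      obtain ⟨t, ht, e⟩ := invP P
      generalize z.1 * z.2 = u at *
      have hinj : Function.Injective fun v : G => (t * v, t * v * u) := fun a b e => by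
        simpa using congrArg Prod.fst e
      rw [← card_qq P, show Nat.card (P : Subgroup G) = ((P : Subgroup G) : Set G).ncard from
        Nat.card_coe_set_eq _, ← Set.ncard_image_of_injective _ hinj]
      congr 1
      ext w
      constructor
      · rintro ⟨hw, rfl⟩
        have h3 := cent_mul e (hinv P w.1 hw.1 _ hP h1 (inverts hw.1 hw.2.1))
        have h4 : (t * w.1) ^ qq p G = 1 := by
          by_contra hne
          refine h1 (hA _ ⟨h.prod_sq ht.1 hw.1.1, hne⟩ _ hu (Commute.pow_left ?_ _))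
          show _ = _
          rw [← h3 _ hP, inv_mul_cancel_right, h3 _ hP]
        refine ⟨t * w.1, mem_of_norm h4 (mem_normalizer_fintype fun a ha => ?_), ?_⟩
        · rw [h3 a ha]
          exact ha
        · simp [← mul_assoc, ht.1, hw.1.1]
      · rintro ⟨v, hv, rfl⟩
        have e1 : t * v * t = v⁻¹ := by rw [← e v hv, ht.inv]
        have hi : t * v ∈ Invs G := by
          refine ⟨by rw [← mul_assoc, e1, inv_mul_cancel], fun e2 => ht.2 ?_⟩
          rw [← h.pow_qq_inv ht.1, eq_inv_of_mul_eq_one_left e2, inv_pow, pow_qq hv, inv_one]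
        refine ⟨mk _ hi u hu h1 ?_, by simp only [← mul_assoc, e1, inv_mul_cancel, one_mul]⟩
        have hcomm : v * u * v⁻¹ = u := by
          rw [h.p_comm hv hP, mul_inv_cancel_right]
        calc _ = t * (v * u * v⁻¹) * t⁻¹ := by group
          _ = u⁻¹ := by rw [hcomm, e u hP]
  rw [h2, mul_comm _ (qq p G)] at h1
  have h3 := Nat.dvd_of_mul_dvd_mul_left h.odd_qq.pos h1
  have h4 := h.dvd_qq.trans (CfsgLib.Count.frobenius_one (G := G) (Nat.ordProj_dvd _ p))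
  have h5 : {u : G | u ^ qq p G = 1} = insert 1 {u : G | u ^ qq p G = 1 ∧ u ≠ 1} := by
    ext u
    by_cases hu : u = 1 <;> simp [hu]
  change p ∣ {u : G | u ^ qq p G = 1}.ncard at h4
  rw [h5, Set.ncard_insert_of_notMem (by simp)] at h4
  exact hp.out.one_lt.ne' (Nat.dvd_one.1 ((Nat.dvd_add_right h3).1 h4))

theorem key {P : Sylow p G} {w g : G} (hw : w ∈ Invs G) (h1 : ∀ u ∈ P, w * u * w⁻¹ = u)
    (h2 : ∀ u ∈ g • P, w * u * w⁻¹ = u) : g ∈ normalizer (P : Set G) := by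
  refine mem_normalizer_fintype fun u hu => ?_
  have h3 : g * u * g⁻¹ ∈ g • P := mem_smul.2 (by simpa [mul_assoc] using hu)
  refine mem_of_norm (pow_qq h3) ?_
  rw [← h.cent_inv hw.1 hw.2 h1, h.cent_inv hw.1 hw.2 h2]
  exact le_normalizer h3

theorem two_le {P : Sylow p G} {T : Sylow 2 G} {v : G} (hv : v ∈ Invs G) (hT : v ∈ T)
    (h1 : ∀ u ∈ P, v * u * v⁻¹ = u) {s : G} (hs : s ∈ T) : s ∈ normalizer (P : Set G) := by
  rw [← h.cent_inv hv.1 hv.2 h1]
  exact mem_centralizer_singleton_iff.2 (h.two_comm T hs hT)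

theorem not_mem_norm {P : Sylow p G} {T : Sylow 2 G} {v g : G} (hv : v ∈ Invs G) (hT : v ∈ T)
    (h1 : ∀ u ∈ P, v * u * v⁻¹ = u) (hg : g ∈ normalizer (T : Set G)) (hgp : g ^ p = 1)
    (hg1 : g ≠ 1) : g ∉ normalizer (P : Set G) := fun hn => by
  refine h.no_cent T (mem_of_norm (k := 1) (by rwa [pow_one]) hn) hg1 fun s hs => ?_
  have h2 := comm_mem h.ab P hn (h.two_le hv hT h1 hs)
  have h3 : ⁅g, s⁆ ∈ T := by
    rw [commutatorElement_def]
    exact mul_mem ((mem_normalizer_iff.1 hg s).1 hs) (inv_mem hs)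
  have := IsPGroup.disjoint_of_ne p 2 h.odd _ _ P.isPGroup' T.isPGroup'
  exact (commutatorElement_eq_one_iff_mul_comm.1 (disjoint_def.1 this h2 h3)).symm

theorem uniq {P : Sylow p G} {a b : G} (ha : a ∈ Invs G) (hb : b ∈ Invs G)
    (h1 : ∀ u ∈ P, a * u * a⁻¹ = u) (h2 : ∀ u ∈ P, b * u * b⁻¹ = u) : a = b := by
  by_contra hne
  obtain ⟨T, hT⟩ := ha.sylow
  have hbT : b ∈ T := mem_two hb.1 fun s hs => by
    have := h.two_le ha hT h1 hs
    rw [← h.cent_inv hb.1 hb.2 h2] at this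
    exact (mem_centralizer_singleton_iff.1 this).symm
  obtain ⟨y, hy, hyp⟩ := h.exists_y T
  have hyn := h.not_mem_norm ha hT h1 hy (hyp ▸ pow_orderOf_eq_one y) fun e => by
    rw [e, orderOf_one] at hyp
    exact hp.out.one_lt.ne hyp
  have hle : ∀ s ∈ T, s ∈ normalizer ((y • P : Sylow p G) : Set G) := fun s hs =>
    h.two_le (ha.conj y) ((mem_normalizer_iff.1 hy a).1 hT) (cz_smul h1 y) hs
  have i1 := (h.dich _ ha.1 (hle a hT)).resolve_left fun e => hyn (h.key ha h1 e)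
  have i2 := (h.dich _ hb.1 (hle b hbT)).resolve_left fun e => hyn (h.key hb h2 e)
  have hab : a * b ∈ Invs G := by
    refine ⟨?_, fun e => hne (by rw [eq_inv_of_mul_eq_one_left e, hb.inv])⟩
    rw [mul_assoc, ← mul_assoc b, h.two_comm T hbT hT, mul_assoc, hb.1, mul_one, ha.1]
  refine hyn (h.key hab (fun u hu => ?_) (cent_mul i1 i2))
  calc a * b * u * (a * b)⁻¹ = a * (b * u * b⁻¹) * a⁻¹ := by group
    _ = u := by rw [h2 u hu, h1 u hu]

theorem all_cz {P : Sylow p G} {T : Sylow 2 G} {v : G} (hv : v ∈ Invs G) (hT : v ∈ T)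
    (h1 : ∀ u ∈ P, v * u * v⁻¹ = u) : (∃ s ∈ Invs G, ∀ u ∈ P, s * u * s⁻¹ = u⁻¹) ∧
    ∀ t ∈ Invs G, t ∈ T → ∃ Q : Sylow p G, ∀ u ∈ Q, t * u * t⁻¹ = u := by
  obtain ⟨y, hy, hyp⟩ := h.exists_y T
  have hy1 : y ≠ 1 := fun e => by
    rw [e, orderOf_one] at hyp
    exact hp.out.one_lt.ne hyp
  have hyp' : y ^ p = 1 := hyp ▸ pow_orderOf_eq_one y
  have gen : ∀ g ∈ normalizer (T : Set G), g ^ p = 1 → g ≠ 1 →
      g * v * g⁻¹ ∈ T ∧ ∀ u ∈ P, g * v * g⁻¹ * u * (g * v * g⁻¹)⁻¹ = u⁻¹ := fun g hg hgp hg1 => by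
    have hm := (mem_normalizer_iff.1 hg v).1 hT
    exact ⟨hm, (h.dich P (hv.conj g).1 (h.two_le hv hT h1 hm)).resolve_left fun e =>
      h.not_mem_norm hv hT h1 hg hgp hg1 (h.key (hv.conj g) e (cz_smul h1 g))⟩
  obtain ⟨m1, i1⟩ := gen y hy hyp' hy1
  obtain ⟨m2, i2⟩ := gen y⁻¹ (inv_mem hy) (by rw [inv_pow, hyp', inv_one]) (inv_ne_one.2 hy1)
  have two : ∀ t ∈ Invs G, t ∈ T → (∀ u ∈ P, t * u * t⁻¹ = u⁻¹) →
      t = y * v * y⁻¹ ∨ t * (y * v * y⁻¹) = v := fun t ht htT it => by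
    by_cases e : t * (y * v * y⁻¹) = 1
    · exact Or.inl (by rw [eq_inv_of_mul_eq_one_left e, (hv.conj y).inv])
    · refine Or.inr (h.uniq ⟨?_, e⟩ hv (cent_mul it i1) h1)
      rw [mul_assoc, ← mul_assoc (y * v * y⁻¹), h.two_comm T m1 htT, mul_assoc, (hv.conj y).1,
        mul_one, ht.1]
  have e2 : y⁻¹ * v * y⁻¹⁻¹ * (y * v * y⁻¹) = v := by
    refine (two _ (hv.conj _) m2 i2).resolve_left fun e => ?_
    refine h.not_mem_norm hv hT h1 (mul_mem hy hy) ?_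
      (fun e => hy1 (h.sq_eq_one (h.pow_qq_of hyp') e)) ?_
    · rw [← pow_two, ← pow_mul, mul_comm, pow_mul, hyp', one_pow]
    · rw [← h.cent_inv hv.1 hv.2 h1, mem_centralizer_singleton_iff]
      calc y * y * v = y * (y * v * y⁻¹) * y := by group
        _ = _ := by rw [← e]; group
  refine ⟨⟨_, hv.conj y, i1⟩, fun t ht htT => ?_⟩
  rcases h.dich P ht.1 (h.two_le hv hT h1 htT) with e | e
  · exact ⟨P, e⟩
  · rcases two t ht htT e with e3 | e3
    · exact ⟨_, e3 ▸ cz_smul h1 y⟩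
    · exact ⟨_, mul_right_cancel (e3.trans e2.symm) ▸ cz_smul h1 y⁻¹⟩

theorem caseB {P : Sylow p G} {v : G} (hv : v ∈ Invs G) (h1 : ∀ u ∈ P, v * u * v⁻¹ = u) :
    False := by
  obtain ⟨T, hT⟩ := hv.sylow
  have cz : ∀ t ∈ Invs G, ∃ Q : Sylow p G, ∀ u ∈ Q, t * u * t⁻¹ = u := fun t ht => by
    obtain ⟨T', hT'⟩ := ht.sylow
    obtain ⟨g, rfl⟩ := MulAction.exists_smul_eq G T T'
    exact (h.all_cz (hv.conj g) (mem_smul.2 (by simpa [mul_assoc] using hT)) (cz_smul h1 g)).2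
      t ht hT'
  have cj : ∀ t ∈ Invs G, ∃ g, t = g * v * g⁻¹ := fun t ht => by
    obtain ⟨Q, hQ⟩ := cz t ht
    obtain ⟨g, rfl⟩ := MulAction.exists_smul_eq G P Q
    exact ⟨g, h.uniq ht (hv.conj g) hQ (cz_smul h1 g)⟩
  have zc : ∀ Q : Sylow p G, ∃ t ∈ Invs G, ∀ u ∈ Q, t * u * t⁻¹ = u := fun Q => by
    obtain ⟨g, rfl⟩ := MulAction.exists_smul_eq G P Q
    exact ⟨_, hv.conj g, cz_smul h1 g⟩
  have nb : ∀ {Q : Sylow p G} {a t : G}, a ∈ Invs G → t ∈ Invs G → (∀ u ∈ Q, a * u * a⁻¹ = u) →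
      t ≠ a → t * a = a * t → ∀ u ∈ Q, t * u * t⁻¹ = u⁻¹ := fun {Q a t} ha ht hQ hne hc =>
    (h.dich Q ht.1 (h.cent_inv ha.1 ha.2 hQ ▸ mem_centralizer_singleton_iff.2 hc)).resolve_left
      fun e => hne (h.uniq ht ha e hQ)
  haveI : Nonempty (Invs G) := ⟨⟨v, hv⟩⟩
  refine no_friendship (V := Invs G) (fun a b => a ≠ b ∧ (a : G) * b = b * a)
    (fun a b e => ⟨e.1.symm, e.2.symm⟩) (fun a e => e.1 rfl)
    {b : Invs G | (⟨v, hv⟩ : Invs G) ≠ b ∧ v * b = b * v}.ncard ?_ (fun a => ?_) fun t s hts => ?_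
  · obtain ⟨s, hs, e⟩ := (h.all_cz hv hT h1).1
    have hq : 3 ≤ qq p G := by
      have := Nat.le_of_dvd h.odd_qq.pos h.dvd_qq
      have := hp.out.two_le
      have := h.odd
      omega
    obtain ⟨x, hx, hx1⟩ : ∃ x ∈ P, x ≠ 1 := by
      by_contra hn
      push Not at hn
      have := card_qq P
      rw [(eq_bot_iff_forall _).2 hn, card_bot] at this
      omega
    have hi : ∀ u : (P : Subgroup G), s * u ∈ Invs G := fun u => by
      have e1 : s * u * s = (u : G)⁻¹ := by rw [← e u u.2, hs.inv]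
      refine ⟨by rw [← mul_assoc, e1, inv_mul_cancel], fun e2 => hs.2 ?_⟩
      rw [← h.pow_qq_inv hs.1, eq_inv_of_mul_eq_one_left e2, inv_pow, pow_qq u.2, inv_one]
    refine hq.trans ?_
    rw [← card_qq P, ← Nat.card_coe_set_eq]
    refine Nat.card_le_card_of_injective (fun u => ⟨⟨s * u, hi u⟩, fun e2 => hx1 ?_, ?_⟩)
      fun a b e2 => Subtype.ext ?_
    · have e3 : v = s * u := congrArg Subtype.val e2
      have e4 := h1 x hx
      have hcomm : u * x * (u : G)⁻¹ = x := by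
        rw [h.p_comm u.2 hx, mul_inv_cancel_right]
      have e5 : x = x⁻¹ := by
        calc x = v * x * v⁻¹ := e4.symm
          _ = s * (u * x * (u : G)⁻¹) * s⁻¹ := by rw [e3]; group
          _ = x⁻¹ := by rw [hcomm, e x hx]
      refine h.sq_eq_one (pow_qq hx) ?_
      nth_rw 1 [e5]
      exact inv_mul_cancel x
    · refine (mem_centralizer_singleton_iff.1 ?_).symm
      rw [h.cent_inv hv.1 hv.2 h1]
      refine mul_mem (mem_normalizer_fintype fun a ha => ?_) (le_normalizer u.2)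
      rw [e a ha]
      exact inv_mem ha
    · simpa using e2
  · obtain ⟨g, hg⟩ := cj a a.2
    refine (Set.ncard_congr (fun (b : Invs G) _ => (⟨g * b * g⁻¹, b.2.conj g⟩ : Invs G)) ?_ ?_ ?_).symm
    · rintro b ⟨h2, h3⟩
      refine ⟨fun e => h2 (Subtype.ext ?_), ?_⟩
      · have := congrArg Subtype.val e
        rw [hg] at this
        simpa using this
      · rw [hg]
        simpa using h3
    · intro b c _ _ e
      exact Subtype.ext (by simpa using e)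
    · rintro b ⟨h2, h3⟩
      refine ⟨⟨g⁻¹ * b * g⁻¹⁻¹, b.2.conj _⟩, ⟨fun e => h2 (Subtype.ext ?_), ?_⟩, Subtype.ext ?_⟩
      · rw [hg, show v = g⁻¹ * b * g⁻¹⁻¹ from congrArg Subtype.val e]
        group
      · rw [hg] at h3
        show v * (g⁻¹ * b * g⁻¹⁻¹) = g⁻¹ * b * g⁻¹⁻¹ * v
        calc _ = g⁻¹ * (g * v * g⁻¹ * b) * g := by group
          _ = _ := by rw [h3]; group
      · show g * (g⁻¹ * b * g⁻¹⁻¹) * g⁻¹ = b
        group
  · obtain ⟨t, ht⟩ := t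
    obtain ⟨s, hs⟩ := s
    have hne : t ≠ s := fun e => hts (Subtype.ext e)
    have hts1 : t * s ≠ 1 := fun e => hne (by rw [eq_inv_of_mul_eq_one_left e, hs.inv])
    have h2 := h.prod_sq ht.1 hs.1
    have hcz : ∀ {c : G} {Q : Sylow p G}, c ∈ Invs G → (∀ u ∈ Q, c * u * c⁻¹ = u) → t ≠ c →
        t * c = c * t → s ≠ c → s * c = c * s → ∀ u ∈ Q, t * s * u * (t * s)⁻¹ = u :=
      fun {c Q} hc hQ a1 a2 a3 a4 => cent_mul (nb hc ht hQ a1 a2) (nb hc hs hQ a3 a4)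
    by_cases hw : (t * s) ^ qq p G = 1
    · obtain ⟨Q, hQ⟩ := exists_sylow hw
      obtain ⟨c, hc, e⟩ := zc Q
      have gen : ∀ a ∈ Invs G, a * (t * s) * a⁻¹ = (t * s)⁻¹ → a ≠ c ∧ a * c = c * a :=
        fun a ha ea => by
          refine ⟨fun e2 => hts1 (h.sq_eq_one hw ?_), mem_centralizer_singleton_iff.1 ?_⟩
          · rw [e2, e _ hQ] at ea
            nth_rw 1 [ea]
            exact inv_mul_cancel _
          · rw [h.cent_inv hc.1 hc.2 e]
            exact h.mem_norm hQ hts1 (Or.inr ea)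
      refine ⟨⟨c, hc⟩, ⟨⟨fun e2 => (gen t ht (inverts ht hs)).1 (congrArg Subtype.val e2),
        (gen t ht (inverts ht hs)).2⟩, fun e2 => (gen s hs (inverts' ht hs)).1
        (congrArg Subtype.val e2), (gen s hs (inverts' ht hs)).2⟩, ?_⟩
      rintro ⟨b, hb⟩ ⟨⟨-, a2⟩, -, a4⟩
      refine Subtype.ext (h.uniq hb hc (h.inv_cent hb.1 hQ hts1 ?_) e)
      exact ((Commute.mul_left (show Commute t b from a2) (show Commute s b from a4)).eq).symm
    · have hwI : (t * s) ^ qq p G ∈ Invs G := ⟨h2, hw⟩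
      have c1 := comm_pow (inverts ht hs) h2
      have c2 := comm_pow (inverts' ht hs) h2
      have gen : Commute t s → (t * s) ^ qq p G = t * s := fun hc => h.pow_qq_inv (by
        rw [mul_assoc, ← mul_assoc s, ← hc.eq, mul_assoc, hs.1, mul_one, ht.1])
      refine ⟨⟨_, hwI⟩, ⟨⟨fun e => ?_, c1⟩, fun e => ?_, c2⟩, ?_⟩
      · have e1 : t = (t * s) ^ qq p G := congrArg Subtype.val e
        rw [← e1] at c2
        rw [gen c2.symm] at e1
        exact hs.2 (by simpa using e1)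
      · have e1 : s = (t * s) ^ qq p G := congrArg Subtype.val e
        rw [← e1] at c1
        rw [gen c1] at e1
        exact ht.2 (by simpa using e1)
      · rintro ⟨b, hb⟩ ⟨⟨a1, a2⟩, a3, a4⟩
        obtain ⟨Q, hQ⟩ := cz b hb
        have h3 := hcz hb hQ (fun e => a1 (Subtype.ext e)) a2 (fun e => a3 (Subtype.ext e)) a4
        refine Subtype.ext (h.uniq hb hwI hQ fun u hu => ?_)
        have : Commute (t * s) u := by
          show _ = _
          rw [← h3 u hu, inv_mul_cancel_right, h3 u hu]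
        rw [(this.pow_left _).eq, mul_inv_cancel_right]

theorem false : False := by
  refine h.caseA fun t ht x hx e => ?_
  by_contra h1
  obtain ⟨P, hP⟩ := exists_sylow hx
  exact h.caseB ht (h.inv_cent ht.1 hP h1 e)

end Ctx

end CfsgLib.CycAb
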